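import Cfsg.Agent.Mrg.Omega.NO3S.SNL.Lev
import Cfsg.Agent.Mrg.Omega.NO3S.ThmB.Main
import Cfsg.Agent.Mrg.Omega.OM.Lev.SFr
import Cfsg.Agent.Mrg.Omega.OM.Lev.Nat


/-!
# SN.Two / SymBigL: the frame holds at every stage

* `swap_of_tv` : an element which acts on `V` as a transvection acts as a transposition;
* `exists_exL` : exact best offenders at a level;
* `wc_line` : `Q ≤ N_G(V^g)` implies `V^g ≤ Ω₁(Z(K))`, `K ≤ Q` a level;
* `lhyp` : `LHyp` at a level; `frJ` : the frame at stage `-1`; **`frL`** : the frame for `HypL`.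
-/

set_option autoImplicit false
set_option linter.unusedSectionVars false

namespace Cfsg.Agent.Omega.NO3S.SNL

open Subgroup Cfsg Cfsg.Agent.PLocal.ThompsonJ Cfsg.Agent.ZN Cfsg.Agent.ZN.ChoiceBase
open Cfsg.Agent.PLocal.ElemAbSup
open Cfsg.Agent.Omega.MinPar Cfsg.Agent.Omega.Frame Cfsg.Agent.Omega.FrameNOFF
open Cfsg.Agent.Omega.S5.Def Cfsg.Agent.Omega.S5.Syl Cfsg.Agent.Omega.S5.Pair
open Cfsg.Agent.Omega.NSix.Base Cfsg.Agent.Omega.NSix.Basic
open Cfsg.Agent.Omega.NO3S.SN (pt Cn Qn U mem_Cn mem_Cn' Base)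
open Cfsg.Agent.ZN.ChoiceSit (Syl exists_syl syl_conj)
open Cfsg.Agent.Omega.NO1.BestOff (Best)
open Cfsg.Agent.Omega.NO3S.Level (Lev BO nxt lev lev_isLev)
open Cfsg.Agent.Omega.FFThm (SymKM SymK)
open Cfsg.Agent.Omega.FrameFF (cv)
open scoped Pointwise commutatorElement

universe u

/-- **Transvections on the even-subset module are transpositions.** -/
theorem swap_of_tv {G : Type u} [Group G] [Finite G] {n : ℕ} {V L : Subgroup G} {ε : (Fin n → ZMod 2) → G}
    (h : EvenSet n V L ε) (hn : 5 ≤ n) {a : G} {σ : Equiv.Perm (Fin n)} (hσ : Acts ε a σ) {d : G}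
    (hd : ∀ v ∈ V, a * v * a⁻¹ = v ∨ a * v * a⁻¹ = v * d) {i : Fin n} (hi : σ i ≠ i) :
    σ = Equiv.swap i (σ i) ∧ d = rr ε i (σ i) := by
  have key : ∀ k, σ k ≠ k → d = rr ε k (σ k) := by
    intro k hk
    have h1 := zz_conj hσ k
    rcases hd _ (zz_mem h k) with h2 | h2
    · exfalso
      have h3 := (h.fixes_iff (by omega) hσ k).1 (mul_inv_eq_iff_eq_mul.1 h2)
      exact hk h3
    · rw [h1] at h2
      rw [rr, h2, ← mul_assoc, zz_sq h, one_mul]
  refine ⟨?_, key i hi⟩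
  have h1 : ∀ k, k ≠ i → k ≠ σ i → σ k = k := by
    intro k hki hkj
    by_contra hk
    refine NSix.CaseJ.Fus.rr_ne h hn (i := k) (j := σ k) (k := i) (l := σ i) (Ne.symm hk) hki.symm hkj.symm ?_
    rw [← key k hk, ← key i hi]
  have h2 : σ (σ i) = i := by
    by_contra hne
    have h3 : σ (σ i) ≠ σ i := fun e => hi (σ.injective e)
    exact hi (σ.injective (σ.injective (h1 _ hne h3)))
  refine Equiv.ext fun k => ?_
  by_cases hki : k = i
  · rw [hki, Equiv.swap_apply_left]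
  · by_cases hkj : k = σ i
    · rw [hkj, Equiv.swap_apply_right, h2]
    · rw [Equiv.swap_apply_of_ne_of_ne hki hkj, h1 k hki hkj]

variable {G : Type u} [Group G] [Finite G] {S : Sylow 2 G} {P : Subgroup G} {m : ℕ}

/-- **Exact best offenders at a level.** -/
theorem exists_exL {ε : (Fin (2 ^ m + 1) → ZMod 2) → G} (h : SN.Hyp S P m ε) {K : Subgroup G}
    (hL : Lev (S : Subgroup G) K) (hK : K ≤ o2 P) (hJ : ∃ A ∈ BO (S : Subgroup G) K, ¬ A ≤ o2 P)
    (N : SymKM (S : Subgroup G) P (zl (S : Subgroup G) P) (cv (S : Subgroup G) P) 1 m)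
    {i j : Fin (2 ^ m + 1)} (hij : i ≠ j) : ∃ A, ExL P (zc K) ε i j A := by
  have hcen := NoFF.LinesPlug.inf_eq_bot S h.nonLoc
  obtain ⟨ι, hι, W, d, t, r, Lb, A, hs, -, -, hAn, -, hF⟩ := OM.Lev.Sym.exists_sym_lev FF.Glob.ffthmM h.ctx.char2
    h.star hL hK hcen hJ one_pos (le_trans (by norm_num) h.m3) N
  obtain ⟨k⟩ := hs.ne
  have hn5 : 5 ≤ 2 ^ m + 1 := by have := h.nine_le; omega
  have hn3 : 3 ≤ 2 ^ m + 1 := by omega
  have hAS : A k ≤ (S : Subgroup G) := (hAn k).trans (NO3S.Level.nxt_le _ _)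
  have hAP : A k ≤ P := hAS.trans h.star.isLoc.le
  -- transvections
  have htv : ∀ a ∈ A k, ∀ v ∈ zl (S : Subgroup G) P, a * v * a⁻¹ = v ∨ a * v * a⁻¹ = v * d k := by
    intro a ha v hv
    obtain ⟨w, hw, c, hc, rfl⟩ := hF.WC k v hv
    have hac := hF.AC k a ha c hc
    have h1 : w⁻¹ * (a * w * a⁻¹) ∈ zpowers (d k) := by
      refine (hF.blk k).comm_le le_rfl ?_
      have h2 : ⁅w⁻¹, a⁆ ∈ ⁅W k, (S : Subgroup G) ⊓ centralizer (zc (nxt (S : Subgroup G) K) : Set G)⁆ :=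
        commutator_mem_commutator (inv_mem hw) (hF.AB k ha)
      rw [commutatorElement_def] at h2
      have e : w⁻¹ * a * w⁻¹⁻¹ * a⁻¹ = w⁻¹ * (a * w * a⁻¹) := by group
      rwa [e] at h2
    have hdV : d k ∈ zl (S : Subgroup G) P := hF.ZV k (mem_zpowers _)
    have hdd : d k * d k = 1 := h.ev.sq_mem hdV
    have hwV := hF.WV k hw
    have hcV := hF.CV k hc
    have e1 : a * (w * c) * a⁻¹ = w * (w⁻¹ * (a * w * a⁻¹)) * c := by
      calc a * (w * c) * a⁻¹ = a * w * (a⁻¹ * a) * c * a⁻¹ := by group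
        _ = (a * w * a⁻¹) * (a * c) * a⁻¹ := by group
        _ = (a * w * a⁻¹) * (c * a) * a⁻¹ := by rw [hac]
        _ = _ := by group
    rcases NSix.CaseJ.Exact.mem_zp hdd h1 with h3 | h3
    · left; rw [e1, h3, mul_one]
    · right
      rw [e1, h3, mul_assoc, h.ev.comm_mem hdV hcV, mul_assoc]
  have hperm : ∀ a ∈ A k, ∃ σ, Acts ε a σ := fun a ha => h.ev.perm a (hAP ha)
  obtain ⟨a, ha, haW⟩ : ∃ a ∈ A k, ¬ ∀ v ∈ W k, a * v = v * a := by
    by_contra hcon
    push Not at hcon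
    exact hF.Ane k hcon
  obtain ⟨σ, hσ⟩ := hperm a ha
  obtain ⟨p, hp⟩ : ∃ p, σ p ≠ p := by
    by_contra hcon
    push Not at hcon
    have e1 : σ = 1 := Equiv.ext hcon
    rw [e1] at hσ
    refine haW fun v hv => ?_
    exact (mem_centralizer_iff.1 (h.ev.acts_one_iff.1 hσ) v (hF.WV k hv)).symm
  obtain ⟨hσs, hd⟩ := swap_of_tv h.ev hn5 hσ (htv a ha) hp
  have hA : ExL P (zc K) ε p (σ p) (A k) :=
    { AP := hAP
      best := { hF.AX k with max := fun Y hY hYc => hF.best k Y hYc hY }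
      act := by
        intro b hb
        obtain ⟨τ, hτ⟩ := hperm b hb
        by_cases hb1 : ∀ q, τ q = q
        · left
          have e1 : τ = 1 := Equiv.ext hb1
          rwa [e1] at hτ
        · right
          push Not at hb1
          obtain ⟨q, hq⟩ := hb1
          obtain ⟨h1, h2⟩ := swap_of_tv h.ev hn5 hτ (htv b hb) hq
          have h3 : q = p ∨ q = σ p := by
            by_contra hcon
            push Not at hcon
            refine NSix.CaseJ.Fus.rr_ne h.ev hn5 (i := q) (j := τ q) (k := p) (l := σ p) hq.symm hcon.1.symm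
              hcon.2.symm ?_
            rw [← h2, ← hd]
          have h4 : τ q = p ∨ τ q = σ p := by
            by_contra hcon
            push Not at hcon
            refine NSix.CaseJ.Fus.rr_ne h.ev hn5 (i := τ q) (j := q) (k := p) (l := σ p) hq hcon.1.symm
              hcon.2.symm ?_
            rw [rr_symm h.ev, ← h2, ← hd]
          have h5 : τ = Equiv.swap p (σ p) := by
            rw [h1]
            rcases h3 with h3 | h3 <;> rcases h4 with h4 | h4
            · exact absurd (h4.trans h3.symm) hq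
            · rw [h3] at h4 ⊢
              rw [h4]
            · rw [h3] at h4 ⊢
              rw [h4, Equiv.swap_comm]
            · exact absurd (h4.trans h3.symm) hq
          rwa [h5] at hτ
      ex := ⟨a, ha, by rwa [← hσs]⟩
      cV := fun b hb hb1 => by
        rw [← IsParS.inf_centralizer S h.ctx.char2 h.star]
        exact ⟨hAS hb, h.ev.acts_one_iff.1 hb1⟩ }
  obtain ⟨τ, h1, h2, -⟩ := exists_perm hp.symm hij
  obtain ⟨g, hg, hgτ⟩ := h.ev.full τ
  have hX : P ≤ normalizer ((zc K : Subgroup G) : Set G) :=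
    (hL.le_norm_of_o2 hK (NO3S.OneLine.o2_le S h.star.toIsPar)).trans (NO3S.Level.normalizer_le_zc K)
  have h3 := hA.conj hg (hX hg) hgτ
  rw [h1, h2] at h3
  exact ⟨_, h3⟩

/-- `Q ≤ N_G(V^g)` implies `V^g ≤ Ω₁(Z(K))`. -/
theorem wc_line {ε : (Fin (2 ^ m + 1) → ZMod 2) → G} (h : SN.Hyp S P m ε) {K : Subgroup G}
    (hL : Lev (S : Subgroup G) K) (hK : K ≤ o2 P) {g : G}
    (hg : o2 P ≤ normalizer ((cj g (zl (S : Subgroup G) P) : Subgroup G) : Set G)) :
    cj g (zl (S : Subgroup G) P) ≤ zc K := by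
  have hQS := NO3S.OneLine.o2_le S h.star.toIsPar
  have hVX : zl (S : Subgroup G) P ≤ zc K := (h.star.isLoc.zl_le S h.ctx.char2).trans (hL.zc_o2_le hK hQS)
  have hSV : (S : Subgroup G) ≤ normalizer (zl (S : Subgroup G) P : Set G) :=
    h.star.isLoc.le.trans (MinSimple.VModule.le_normalizer_zl _ _)
  have hsyl : Syl (cj g (S : Subgroup G)) (normalizer ((cj g (zl (S : Subgroup G) P) : Subgroup G) : Set G)) := by
    refine ⟨?_, isPGroup_cj g S.isPGroup', fun R _ hR hSR => ?_⟩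
    · rw [← cj_normalizer]; exact cj_mono g hSV
    · have h1 : (S : Subgroup G) ≤ cj g⁻¹ R := by
        have := cj_mono g⁻¹ hSR
        rwa [cj_inv_cj] at this
      have h2 := S.is_maximal' (isPGroup_cj g⁻¹ hR) h1
      rw [← h2, cj_cj_inv]
  obtain ⟨T, hT, hQT⟩ := exists_syl (ChoiceSit.isPGroup_o2 P) hg
  obtain ⟨n, hn, hnT⟩ := syl_conj hsyl hT
  rw [cj_cj] at hnT
  have hKT : K ≤ cj (n * g) (S : Subgroup G) := (hK.trans hQT).trans hnT.ge
  have hwc := OM.Lev.Wc.wc_Lev hL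
  have h1 : cj (n * g)⁻¹ K = K := hwc.eq _ (by
    have := cj_mono (n * g)⁻¹ hKT
    rwa [cj_inv_cj] at this)
  have h2 : cj (n * g) K = K := by
    conv_rhs => rw [← cj_cj_inv (n * g) K, h1]
  have h3 : cj (n * g) (zl (S : Subgroup G) P) ≤ zc K := by
    have h4 := cj_mono (n * g) hVX
    rw [← NO3S.Level.zc_cj, h2] at h4
    exact h4
  rw [← cj_cj, cj_eq_of_mem_normalizer hn] at h3
  exact h3

/-- **The hypotheses at a level.** -/
theorem lhyp {ε : (Fin (2 ^ m + 1) → ZMod 2) → G} (h : SN.Hyp S P m ε) {K : Subgroup G}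
    (hL : Lev (S : Subgroup G) K) (hK : K ≤ o2 P) (hJ : ∃ A ∈ BO (S : Subgroup G) K, ¬ A ≤ o2 P)
    (N : SymKM (S : Subgroup G) P (zl (S : Subgroup G) P) (cv (S : Subgroup G) P) 1 m) :
    LHyp S P m ε (zc K) := by
  have hQS := NO3S.OneLine.o2_le S h.star.toIsPar
  have hcen := NoFF.LinesPlug.inf_eq_bot S h.nonLoc
  have hoz := (NO3S.OneLine.lev_eq FF.Glob.ffthmM h.ctx.char2 h.star hL hK hcen hJ).1
  exact
    { h with
      elX := NO3S.OneLine.zc_elem K
      VX := (h.star.isLoc.zl_le S h.ctx.char2).trans (hL.zc_o2_le hK hQS)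
      XQ := (ChoiceSit.zc_le K).trans hK
      XP := (hL.le_norm_of_o2 hK hQS).trans (NO3S.Level.normalizer_le_zc K)
      oz := fun u hu hu2 hc => by
        rw [← hoz]
        exact ChoiceBase.mem_zc.2 ⟨hu, by rw [pow_two]; exact hu2, hc⟩
      exA := fun i j hij => exists_exL h hL hK hJ N hij
      wc := fun g hg => wc_line h hL hK hg }

/-- **The frame at stage `-1`.** -/
theorem frJ {ε : (Fin (2 ^ m + 1) → ZMod 2) → G} (h : SN.Hyp S P m ε) (hJ : NSix.CaseJ.Base.Hyp S P ε) :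
    Fr S P m ε :=
  { h with
    oz := fun _ hu hu2 hc => NSix.CaseJ.LemQ.oz hJ hu hu2 hc
    lemN := fun _ hg hQ => SN.J.N2.mem_of_Q_le hJ h hg hQ
    ctl := fun _ hv _ hg => NSix.CaseJ.Fus.control hJ h.m3 hv hg }

/-- **The frame holds at every stage.** -/
theorem frL (h : HypL S P) (hm : 3 ≤ m)
    (N : SymKM (S : Subgroup G) P (zl (S : Subgroup G) P) (cv (S : Subgroup G) P) 1 m) :
    ∃ ε, Fr S P m ε := by
  have h1 : 1 ≤ m := le_trans (by norm_num) hm
  have hD : cv (S : Subgroup G) P = ⊥ :=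
    NoFF.LinesPlug.inf_oddGen_eq_bot h.ctx.char2 S h.star.toIsPar (NoFF.LinesPlug.inf_eq_bot S h.nonLoc)
  have hH := MinSimple.VModule.le_normalizer_zl (S : Subgroup G) P
  have hN : SN.Hyp S P m (S5.Of.lab N.toSymK h1) :=
    ⟨h.ctx, h.star, h.nonLoc, hm, S5.Of.evenSet N.toSymK hD h1 hH, S5.Of.fix0 N.toSymK hD h1 hH h.star.isLoc.le⟩
  refine ⟨S5.Of.lab N.toSymK h1, ?_⟩
  rcases h.stage with hj | ⟨n, hn, hn1⟩
  · refine frJ hN ⟨h.ctx.char2, h.star, le_trans (by norm_num) hm, hN.ev, hN.fix0, fun A hA hoff a ha => ?_, hj⟩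
    exact S5.Of.off N.toSymK hD h1 hH h.star.isLoc.le hA hoff ha
  · exact (lhyp hN (lev_isLev _ n) (hn P h.star) (exists_BO h.ctx.char2 h.star (hn P h.star) hn1) N).fr

end Cfsg.Agent.Omega.NO3S.SNL
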